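import Groth.Agent.AlgSpDec.OneFlat
import Groth.Prelude.Def_CGrpSh
import Mathlib.AlgebraicGeometry.Morphisms.QuasiFinite
import Mathlib.AlgebraicGeometry.Morphisms.Separated
import Mathlib.Topology.Separation.Connected

/-! # Points with values in reduced schemes of a finite scheme with a section and connected fibres -/

set_option autoImplicit false
set_option backward.isDefEq.respectTransparency false

universe u

open CategoryTheory Limits AlgebraicGeometry

namespace Groth.Agent.ConnFinGrp

variable {S I U : Scheme.{u}} (p : I ⟶ S) (e : S ⟶ I) (he : e ≫ p = 𝟙 S)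

include he

/-- Any point of a reduced scheme in a finite `S`-scheme with a section and connected fibres is the
section. -/
theorem eq_section [IsFinite p] [IsReduced U] (hconn : ∀ s : S, ConnectedSpace ↥(p.fiber s))
    (x : U ⟶ I) : x = x ≫ p ≫ e := by
  have hpt : ∀ y : I, y = e (p y) := by
    intro y
    haveI := hconn (p y)
    haveI : Subsingleton ↥(p.fiber (p y)) := PreconnectedSpace.trivial_of_discrete
    have h1 : y ∈ Set.range (p.fiberι (p y)) := by rw [Scheme.Hom.range_fiberι]; rfl
    have h2 : e (p y) ∈ Set.range (p.fiberι (p y)) := by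
      rw [Scheme.Hom.range_fiberι, Set.mem_preimage, ← Scheme.Hom.comp_apply, he]; rfl
    obtain ⟨a, ha⟩ := h1
    obtain ⟨b, hb⟩ := h2
    exact ha.symm.trans ((congrArg (p.fiberι (p y)) (Subsingleton.elim a b)).trans hb)
  have hmono : ∀ y : I, Mono (I.fromSpecResidueField y ≫ p) := by
    intro y
    obtain ⟨s, rfl⟩ : ∃ s, y = e s := ⟨p y, hpt y⟩
    have h : Function.Bijective (e.residueFieldMap s) := by
      refine ⟨(e.residueFieldMap s).hom.injective, fun b => ?_⟩
      have key : Spec.map (e.residueFieldMap s) ≫ Spec.map (p.residueFieldMap (e s)) ≫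
          S.fromSpecResidueField (p (e s)) = S.fromSpecResidueField s := by
        rw [Scheme.Hom.SpecMap_residueFieldMap_fromSpecResidueField,
          Scheme.Hom.SpecMap_residueFieldMap_fromSpecResidueField_assoc, he, Category.comp_id]
      have hs : p (e s) = s := by rw [← Scheme.Hom.comp_apply, he]; rfl
      rw [← Scheme.residueFieldCongr_fromSpecResidueField hs.symm, ← Spec.map_comp_assoc,
        ← Spec.map_comp_assoc] at key
      have key' := Spec.map_injective ((cancel_mono (S.fromSpecResidueField s)).mp
        (key.trans (by rw [Spec.map_id, Category.id_comp]) :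
          _ = Spec.map (𝟙 _) ≫ S.fromSpecResidueField s))
      exact ⟨_, congr(($key') b)⟩
    haveI : IsIso (e.residueFieldMap s) := (ConcreteCategory.isIso_iff_bijective _).mpr h
    have : I.fromSpecResidueField (e s) ≫ p = inv (Spec.map (e.residueFieldMap s)) ≫ S.fromSpecResidueField s := by
      rw [IsIso.eq_inv_comp, Scheme.Hom.SpecMap_residueFieldMap_fromSpecResidueField_assoc, he,
        Category.comp_id]
    rw [this]
    infer_instance
  refine ext_of_fromSpecResidueField_eq x (x ≫ p ≫ e) p Set.univ dense_univ (fun u _ => ?_)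
    (by simp [he])
  have hy : (x ≫ p ≫ e) u = x u := by
    rw [Scheme.Hom.comp_apply, Scheme.Hom.comp_apply]
    exact (hpt (x u)).symm
  have h1 := Scheme.Hom.SpecMap_residueFieldMap_fromSpecResidueField (f := x) u
  have h2 := Scheme.Hom.SpecMap_residueFieldMap_fromSpecResidueField (f := x ≫ p ≫ e) u
  rw [← Scheme.residueFieldCongr_fromSpecResidueField hy.symm, ← Spec.map_comp_assoc] at h2
  rw [← h1, ← h2]
  congr 1
  haveI := hmono (x u)
  rw [← cancel_mono (I.fromSpecResidueField (x u) ≫ p), reassoc_of% h1, reassoc_of% h2, he,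
    Category.comp_id]

end Groth.Agent.ConnFinGrp
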